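import Groth.Agent.HopfRep.GrpTop
import Groth.Agent.HopfRep.Torsor
import Mathlib.AlgebraicGeometry.Morphisms.QuasiSeparated
import Mathlib.AlgebraicGeometry.Limits

/-!
A group scheme over a field has a clopen neighbourhood of the origin covered by countably many affines.
-/

universe u

open CategoryTheory MonoidalCategory CartesianMonoidalCategory MonObj GrpObj AlgebraicGeometry

set_option linter.style.haveILetI false
set_option backward.isDefEq.respectTransparency.types false

noncomputable section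

namespace Groth.Agent.Grp6.CountableAffine

open HopfRep.GrpTop

variable {K : Type u} [Field K] (G : Over (Spec (CommRingCat.of K))) [GrpObj G]

theorem isOpenMap_mul : IsOpenMap μ[G].left := by
  have e : (lmul (𝟙 G)).hom ≫ snd G G = μ[G] := by
    simp [lmul, Hom.mul_def]
  rw [← e]
  exact (isOpenMap_snd G G).comp (continuous_open (lmul (𝟙 G))).isOpenMap

/-- products of two open sets -/
def prod (U V : G.left.Opens) : G.left.Opens :=
  ⟨μ[G].left '' ((fst G G).left ⁻¹' (U : Set G.left) ∩ (snd G G).left ⁻¹' (V : Set G.left)),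
    isOpenMap_mul G _ ((U.2.preimage (fst G G).left.continuous).inter (V.2.preimage (snd G G).left.continuous))⟩

theorem mul_mem_prod (U V : G.left.Opens) {W : Over (Spec (CommRingCat.of K))} (a b : W ⟶ G) (w : W.left)
    (ha : a.left w ∈ U) (hb : b.left w ∈ V) : (a * b).left w ∈ prod G U V := by
  refine ⟨(lift a b).left w, ⟨?_, ?_⟩, ?_⟩
  · show (lift a b ≫ fst G G).left w ∈ U
    rwa [lift_fst]
  · show (lift a b ≫ snd G G).left w ∈ V
    rwa [lift_snd]
  · rw [← left_comp_apply, ← Hom.mul_def]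

theorem isCompact_prod (U V : G.left.Opens) (hU : IsCompact (U : Set G.left)) (hV : IsCompact (V : Set G.left)) :
    IsCompact (prod G U V : Set G.left) := by
  have hsep := HopfRep.Torsor.isSeparated G
  have : CompactSpace U.toScheme := isCompact_iff_compactSpace.mp hU
  have : CompactSpace V.toScheme := isCompact_iff_compactSpace.mp hV
  have : QuasiCompact (U.ι ≫ G.hom) := (HasAffineProperty.iff_of_isAffine (P := @QuasiCompact)).2 ‹CompactSpace U.toScheme›
  let P := Limits.pullback (U.ι ≫ G.hom) (V.ι ≫ G.hom)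
  have : QuasiCompact (Limits.pullback.snd (U.ι ≫ G.hom) (V.ι ≫ G.hom)) := inferInstance
  have : CompactSpace P := QuasiCompact.compactSpace_of_compactSpace (Limits.pullback.snd (U.ι ≫ G.hom) (V.ι ≫ G.hom))
  let m : P ⟶ (G ⊗ G).left :=
    Limits.pullback.map (U.ι ≫ G.hom) (V.ι ≫ G.hom) G.hom G.hom U.ι V.ι (𝟙 _) (by simp) (by simp)
  have hm : Set.range m = (fst G G).left ⁻¹' (U : Set G.left) ∩ (snd G G).left ⁻¹' (V : Set G.left) := by
    refine (Scheme.Pullback.range_map _ _ _ _ _ _ _ _ _).trans ?_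
    rw [Scheme.Opens.range_ι, Scheme.Opens.range_ι]
    rfl
  show IsCompact (μ[G].left '' _)
  rw [← hm]
  exact (isCompact_range m.continuous).image μ[G].left.continuous

theorem exists_clopen : ∃ U : G.left.Opens, IsClosed (U : Set G.left) ∧
    η[G].left (IsLocalRing.closedPoint K) ∈ U ∧ ∃ V : ℕ → G.left.Opens, (∀ n, IsAffineOpen (V n)) ∧
      (U : Set G.left) = ⋃ n, (V n : Set G.left) := by
  classical
  let e₀ := η[G].left (IsLocalRing.closedPoint K)
  obtain ⟨_, ⟨A, hA, rfl⟩, heA, -⟩ := G.left.isBasis_affineOpens.exists_subset_of_mem_open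
    (Set.mem_univ e₀) isOpen_univ
  let ι' : G ⟶ G := (𝟙 G)⁻¹
  have hι : ∀ {W : Over (Spec (CommRingCat.of K))} (a : W ⟶ G) (w : W.left), (a⁻¹).left w = ι'.left (a.left w) :=
    fun a w => by rw [← left_comp_apply, show a ≫ ι' = a⁻¹ by simp [ι', GrpObj.comp_inv]]
  have hιι : ∀ x, ι'.left (ι'.left x) = x := fun x => by
    rw [← hι, show (ι' : G ⟶ G)⁻¹ = 𝟙 G from inv_inv _]; rfl
  let U₀ : G.left.Opens := A ⊔ ι'.left ⁻¹ᵁ A
  have hU₀ : IsCompact (U₀ : Set G.left) := by
    refine hA.isCompact.union ?_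
    have : (ι'.left ⁻¹ᵁ A : Set G.left) = ι'.left '' (A : Set G.left) := by
      ext x
      exact ⟨fun hx => ⟨_, hx, hιι x⟩, by rintro ⟨y, hy, rfl⟩; show ι'.left (ι'.left y) ∈ A; rwa [hιι]⟩
    exact this ▸ hA.isCompact.image ι'.left.continuous
  let U : ℕ → G.left.Opens := Nat.rec (motive := fun _ => G.left.Opens) U₀ (fun _ X => prod G X X)
  have hc : ∀ n, IsCompact ((U n : G.left.Opens) : Set G.left) := fun n => by
    induction n with
    | zero => exact hU₀
    | succ n ih => exact isCompact_prod G _ _ ih ih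
  haveI : Subsingleton ↥(Spec (CommRingCat.of K)) := inferInstanceAs (Subsingleton (PrimeSpectrum K))
  haveI : Subsingleton ↥(𝟙_ (Over (Spec (CommRingCat.of K)))).left := inferInstanceAs (Subsingleton (PrimeSpectrum K))
  have hone : ∀ (W : Over (Spec (CommRingCat.of K))) (w : W.left), (1 : W ⟶ G).left w = e₀ := fun W w => by
    rw [Hom.one_def, left_comp_apply]
    exact congrArg η[G].left (Subsingleton.elim _ _)
  have he : ∀ n, e₀ ∈ U n := fun n => by
    induction n with
    | zero => exact Or.inl heA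
    | succ n ih =>
      have := mul_mem_prod G (U n) (U n) η[G] (1 : 𝟙_ _ ⟶ G) (IsLocalRing.closedPoint K) ih (by
        rw [hone]; exact ih)
      rwa [_root_.mul_one] at this
  have hmono : Monotone U := monotone_nat_of_le_succ fun n x hx => by
    have := mul_mem_prod G (U n) (U n) (resι x) (1 : res x ⟶ G) default (by rwa [resι_apply]) (by
      rw [hone]; exact he n)
    rwa [_root_.mul_one, resι_apply] at this
  have hinv : ∀ n, ∀ x ∈ U n, ι'.left x ∈ U n := fun n => by
    induction n with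
    | zero =>
      rintro x (hx | hx)
      · exact Or.inr (by show ι'.left (ι'.left x) ∈ A; rwa [hιι])
      · exact Or.inl hx
    | succ n ih =>
      rintro _ ⟨z, ⟨hz₁, hz₂⟩, rfl⟩
      have h := mul_mem_prod G (U n) (U n) ((snd G G)⁻¹) ((fst G G)⁻¹) z (by rw [hι]; exact ih _ hz₂)
        (by rw [hι]; exact ih _ hz₁)
      rw [← _root_.mul_inv_rev, hι] at h
      rwa [Hom.mul_def, lift_fst_snd, Category.id_comp] at h
  let Ω : G.left.Opens := ⨆ n, U n
  have hmul : ∀ {W : Over (Spec (CommRingCat.of K))} (a b : W ⟶ G) (w : W.left),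
      a.left w ∈ Ω → b.left w ∈ Ω → (a * b).left w ∈ Ω := by
    intro W a b w ha hb
    obtain ⟨m, hm⟩ := TopologicalSpace.Opens.mem_iSup.1 ha
    obtain ⟨n, hn⟩ := TopologicalSpace.Opens.mem_iSup.1 hb
    exact TopologicalSpace.Opens.mem_iSup.2 ⟨max m n + 1,
      mul_mem_prod G _ _ a b w (hmono (le_max_left m n) hm) (hmono (le_max_right m n) hn)⟩
  refine ⟨Ω, ?_, TopologicalSpace.Opens.mem_iSup.2 ⟨0, he 0⟩, ?_⟩
  · rw [← isOpen_compl_iff, isOpen_iff_forall_mem_open]
    intro x hx
    let T := res x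
    let t : T ⟶ G := resι x
    let φ := lmul t
    let p := (snd T G).left
    have e : φ.hom ≫ snd T G = (fst T G ≫ t) * snd T G := by simp [φ, lmul]
    refine ⟨p '' (φ.hom.left '' (p ⁻¹' (Ω : Set G.left))), ?_,
      isOpenMap_snd T G _ ((continuous_open φ).isOpenMap _ (Ω.2.preimage p.continuous)), ?_⟩
    · rintro _ ⟨_, ⟨v, hv, rfl⟩, rfl⟩ hmem
      refine hx ?_
      have hv' : ((snd T G)⁻¹).left v ∈ Ω := by
        obtain ⟨n, hn⟩ := TopologicalSpace.Opens.mem_iSup.1 hv
        exact TopologicalSpace.Opens.mem_iSup.2 ⟨n, by rw [hι]; exact hinv n _ hn⟩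
      rw [← left_comp_apply, e] at hmem
      have h' := hmul _ _ v hmem hv'
      rwa [mul_inv_cancel_right, left_comp_apply, resι_apply] at h'
    · let s : T ⟶ T ⊗ G := lift (𝟙 T) 1
      refine ⟨φ.hom.left (s.left default), ⟨_, ?_, rfl⟩, ?_⟩
      · show p (s.left default) ∈ Ω
        rw [← left_comp_apply, lift_snd, hone]
        exact TopologicalSpace.Opens.mem_iSup.2 ⟨0, he 0⟩
      · rw [← left_comp_apply, ← left_comp_apply]
        have e' : (s ≫ φ.hom) ≫ snd T G = t := by simp [s, φ, lmul, MonObj.comp_mul]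
        rw [← Category.assoc, e']
        exact resι_apply x _
  · have hcov : ∀ n, ∃ s : Finset G.left.affineOpens, ∀ x, x ∈ U n → ∃ W ∈ s, x ∈ W.1 ∧ W.1 ≤ U n := by
      intro n
      obtain ⟨s, hs⟩ := (hc n).elim_finite_subcover
        (fun W : {W : G.left.affineOpens // W.1 ≤ U n} => (W.1.1 : Set G.left)) (fun W => W.1.1.2) fun x hx => by
          obtain ⟨_, ⟨W, hW, rfl⟩, hxW, hWU⟩ := G.left.isBasis_affineOpens.exists_subset_of_mem_open hx (U n).2
          exact Set.mem_iUnion.2 ⟨⟨⟨W, hW⟩, hWU⟩, hxW⟩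
      refine ⟨s.image Subtype.val, fun x hx => ?_⟩
      obtain ⟨W, hW, hxW⟩ := Set.mem_iUnion₂.1 (hs hx)
      exact ⟨W.1, Finset.mem_image_of_mem _ hW, hxW, W.2⟩
    choose s hs using hcov
    let S : Set G.left.affineOpens := {W | (∃ n, W ∈ s n) ∧ W.1 ≤ Ω}
    have hS : S.Countable := (Set.countable_iUnion fun n => (s n).countable_toSet).mono
      fun W hW => Set.mem_iUnion.2 hW.1
    have hSne : S.Nonempty := by
      obtain ⟨W, hW, -, hWU⟩ := hs 0 _ (he 0)
      exact ⟨W, ⟨0, hW⟩, hWU.trans (le_iSup U 0)⟩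
    obtain ⟨f, hf⟩ := hS.exists_eq_range hSne
    refine ⟨fun n => (f n).1, fun n => (f n).2, Set.Subset.antisymm (fun x hx => ?_) ?_⟩
    · obtain ⟨n, hn⟩ := TopologicalSpace.Opens.mem_iSup.1 hx
      obtain ⟨W, hW, hxW, hWU⟩ := hs n x hn
      obtain ⟨m, hm⟩ : W ∈ Set.range f := hf ▸ ⟨⟨n, hW⟩, hWU.trans (le_iSup U n)⟩
      exact Set.mem_iUnion.2 ⟨m, show x ∈ (f m).1 from hm ▸ hxW⟩
    · exact Set.iUnion_subset fun n => (hf.symm ▸ Set.mem_range_self n : f n ∈ S).2

end Groth.Agent.Grp6.CountableAffine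

end
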