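import Groth.Agent.Grp6.ProfiniteAffine
import Groth.Agent.HopfRep.OrbitClosed
import Groth.Agent.HopfRep.AntiAffine
import Mathlib.AlgebraicGeometry.Noetherian

/-!
A group with connected stabilizer acting transitively on a connected scheme is connected.
-/

universe u

open CategoryTheory MonoidalCategory CartesianMonoidalCategory MonObj GrpObj AlgebraicGeometry TopologicalSpace

set_option linter.style.haveILetI false
set_option backward.isDefEq.respectTransparency.types false

noncomputable section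

namespace Groth.Agent.Grp6.OrbitConnected

open ProfiniteAffine HopfRep

variable {k : Type u} [Field k] {G X : Over (Spec (CommRingCat.of k))} [GrpObj G] (a : AlgGrp.Action G X)

theorem comp_tr {T : Over (Spec (CommRingCat.of k))} (f : T ⟶ X) (g : 𝟙_ (Over (Spec (CommRingCat.of k))) ⟶ G) :
    f ≫ lift (toUnit X ≫ g) (𝟙 X) ≫ a.act = lift (toUnit T ≫ g) f ≫ a.act := by
  rw [comp_lift_assoc, ← Category.assoc, toUnit_unique (f ≫ toUnit X) (toUnit T), Category.comp_id]

theorem tr_tr (g h : 𝟙_ (Over (Spec (CommRingCat.of k))) ⟶ G) :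
    (lift (toUnit X ≫ h) (𝟙 X) ≫ a.act) ≫ lift (toUnit X ≫ g) (𝟙 X) ≫ a.act =
      lift (toUnit X ≫ (g * h)) (𝟙 X) ≫ a.act := by
  rw [comp_tr, MonObj.comp_mul, Orbit.act_mul]

/-- translation of `X` by a rational point -/
def tr (g : 𝟙_ (Over (Spec (CommRingCat.of k))) ⟶ G) : X ≅ X where
  hom := lift (toUnit X ≫ g) (𝟙 X) ≫ a.act
  inv := lift (toUnit X ≫ g⁻¹) (𝟙 X) ≫ a.act
  hom_inv_id := by rw [tr_tr, inv_mul_cancel, MonObj.comp_one, Orbit.act_one]
  inv_hom_id := by rw [tr_tr, mul_inv_cancel, MonObj.comp_one, Orbit.act_one]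

theorem orbit_tr (o : 𝟙_ (Over (Spec (CommRingCat.of k))) ⟶ X) (g : 𝟙_ (Over (Spec (CommRingCat.of k))) ⟶ G) :
    a.orbitMap o ≫ (tr a g).hom = (lt g).hom ≫ a.orbitMap o := by
  show a.orbitMap o ≫ lift (toUnit X ≫ g) (𝟙 X) ≫ a.act = ((toUnit G ≫ g) * 𝟙 G) ≫ a.orbitMap o
  rw [comp_tr, ← Category.id_comp (a.orbitMap o), Orbit.act_orbitMap]
  simp

/-- translation on the space of `X` -/
def trh (g : 𝟙_ (Over (Spec (CommRingCat.of k))) ⟶ G) : X.left ≃ₜ X.left :=
  ((Over.forget _).mapIso (tr a g)).hom.homeomorph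

theorem trh_orbit (o : 𝟙_ (Over (Spec (CommRingCat.of k))) ⟶ X) (g : 𝟙_ (Over (Spec (CommRingCat.of k))) ⟶ G)
    (z : G.left) : trh a g ((a.orbitMap o).left z) = (a.orbitMap o).left (L g z) :=
  congrArg (fun φ : G ⟶ X => φ.left z) (orbit_tr a o g)

theorem connectedSpace [IsAlgClosed k] [LocallyOfFiniteType G.hom] [QuasiCompact G.hom]
    [LocallyOfFiniteType X.hom] [ConnectedSpace X.left] (x₀ : 𝟙_ (Over (Spec (CommRingCat.of k))) ⟶ X)
    (hsurj : Function.Surjective (a.orbitMap x₀).left) {H : Over (Spec (CommRingCat.of k))} (i : H ⟶ G)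
    [ConnectedSpace H.left]
    (hH : ∀ g : 𝟙_ (Over (Spec (CommRingCat.of k))) ⟶ G, g ≫ a.orbitMap x₀ = toUnit _ ≫ x₀ → ∃ h, h ≫ i = g) :
    ConnectedSpace G.left := by
  classical
  let o := (a.orbitMap x₀).left
  have := OrbitClosed.jacobson G.hom
  have := OrbitClosed.jacobson X.hom
  have hrat : ∀ {W : Over (Spec (CommRingCat.of k))} [LocallyOfFiniteType W.hom] (c : W.left) (hc : IsClosed ({c} : Set W.left)),
      ∃ p : 𝟙_ (Over (Spec (CommRingCat.of k))) ⟶ W, p.left (IsLocalRing.closedPoint k) = c := fun {W} _ c hc =>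
    ⟨Over.homMk (pointOfClosedPoint W.hom c hc) (pointOfClosedPoint_comp W.hom c hc), pointOfClosedPoint_apply W.hom c hc _⟩
  have hG : Rat G := fun c hc => hrat c hc
  have : IsLocallyNoetherian G.left := LocallyOfFiniteType.isLocallyNoetherian G.hom
  have : IsLocallyNoetherian X.left := LocallyOfFiniteType.isLocallyNoetherian X.hom
  have : CompactSpace G.left := QuasiCompact.compactSpace_of_compactSpace G.hom
  have : CompactSpace X.left := ⟨by rw [← Set.range_eq_univ.2 hsurj]; exact isCompact_range o.continuous⟩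
  have : IsNoetherian G.left := ⟨⟩
  have : IsNoetherian X.left := ⟨⟩
  -- closed points of `X` come from closed points of `G`
  have hlift : ∀ c : X.left, IsClosed ({c} : Set X.left) → ∃ b, o (ev b) = c := fun c hc => by
    obtain ⟨z, hz⟩ := hsurj c
    obtain ⟨w, hw, hwc⟩ := nonempty_inter_closedPoints (Z := o ⁻¹' {c}) ⟨z, hz⟩
      (hc.preimage o.continuous).isLocallyClosed
    obtain ⟨b, rfl⟩ := hG w hwc
    exact ⟨b, hw⟩
  -- `X` is irreducible
  have : IrreducibleSpace X.left := by
    refine HopfRep.AntiAffine.irreducibleSpace_of_forall fun x => ?_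
    obtain ⟨W, hW, hWne, hWi⟩ : ∃ W : Set X.left, IsOpen W ∧ W.Nonempty ∧ IsIrreducible W := by
      obtain ⟨x₁⟩ := (inferInstance : Nonempty X.left)
      let Z := irreducibleComponent x₁
      let O : Set X.left := (⋃₀ (irreducibleComponents _ \ {Z}))ᶜ
      have hO : IsOpen O := by
        simp only [O, Set.sUnion_eq_biUnion]
        exact ((NoetherianSpace.finite_irreducibleComponents.subset Set.sdiff_subset).isClosed_biUnion
          fun s hs => isClosed_of_mem_irreducibleComponents s hs.1).isOpen_compl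
      have hle : O ⊆ Z := fun w hw => by
        by_contra hwc
        exact hw ⟨irreducibleComponent w, ⟨irreducibleComponent_mem_irreducibleComponents w,
          fun h => hwc ((Set.mem_singleton_iff.1 h).le mem_irreducibleComponent)⟩, mem_irreducibleComponent⟩
      obtain ⟨ξ, hξ⟩ := QuasiSober.sober (isIrreducible_irreducibleComponent (x := x₁)) isClosed_irreducibleComponent
      have hne : O.Nonempty := ⟨ξ, by
        rintro ⟨s, ⟨hs, hne⟩, hξs⟩
        have hle : Z ≤ s := hξ.def.symm.le.trans ((isClosed_of_mem_irreducibleComponents s hs).closure_subset_iff.2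
          (Set.singleton_subset_iff.2 hξs))
        exact hne (((irreducibleComponent_mem_irreducibleComponents x₁).2 hs.1 hle).antisymm hle)⟩
      exact ⟨O, hO, hne, hne, IsPreirreducible.open_subset isIrreducible_irreducibleComponent.isPreirreducible hO hle⟩
    obtain ⟨c₀, hc₀W, hc₀⟩ := nonempty_inter_closedPoints hWne hW.isLocallyClosed
    obtain ⟨c, hcx, hc⟩ := nonempty_inter_closedPoints (Z := closure {x}) ⟨x, subset_closure rfl⟩ isClosed_closure.isLocallyClosed
    obtain ⟨b₀, hb₀⟩ := hlift c₀ hc₀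
    obtain ⟨b, hb⟩ := hlift c hc
    let g := b₀ * b⁻¹
    have e : trh a g c = c₀ := by
      rw [← hb, trh_orbit, L_ev, inv_mul_cancel_right, hb₀]
    have hmem : c ∈ trh a g ⁻¹' W := show trh a g c ∈ W from e ▸ hc₀W
    exact ⟨trh a g ⁻¹' W, hW.preimage (trh a g).continuous,
      (specializes_iff_mem_closure.2 hcx).mem_open (hW.preimage (trh a g).continuous) hmem, ⟨c, hmem⟩,
      hWi.isPreirreducible.preimage (trh a g).isOpenEmbedding⟩
  -- some component of `G` has an image with interior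
  let Cs := irreducibleComponents G.left
  have : Finite Cs := NoetherianSpace.finite_irreducibleComponents.to_subtype
  have hcov : (Set.univ : Set X.left) ⊆ closure (⋃ C : Cs, o '' (C : Set G.left)) := fun x _ => by
    obtain ⟨z, rfl⟩ := hsurj x
    exact subset_closure (Set.mem_iUnion.2 ⟨⟨_, irreducibleComponent_mem_irreducibleComponents z⟩, z, mem_irreducibleComponent, rfl⟩)
  obtain ⟨C₀, hC₀⟩ := ConstrTop.Basic.exists_subset_closure (IrreducibleSpace.isIrreducible_univ _) _ hcov
  have : QuasiCompact o := by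
    have : QuasiCompact (o ≫ X.hom) := by rw [Over.w]; infer_instance
    exact QuasiCompact.of_comp _ X.hom
  have := Torsor.lfp_hom (a.orbitMap x₀)
  have hcons := o.isConstructible_image (ConstrTop.Basic.isConstructible_closed (X := G.left)
    (isClosed_of_mem_irreducibleComponents _ C₀.2))
  obtain ⟨W, hW, hWne, hWsub⟩ := ConstrTop.Basic.exists_open_of_dense' (IrreducibleSpace.isIrreducible_univ X.left) hcons
    (by rw [Set.inter_univ]; exact hC₀)
  rw [Set.inter_univ] at hWne hWsub
  have hWcl : ∀ c ∈ W, IsClosed ({c} : Set X.left) → ∃ b, ev b ∈ (C₀ : Set G.left) ∧ o (ev b) = c := fun c hc hcc => by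
    obtain ⟨z, hz, hzc⟩ := hWsub hc
    obtain ⟨w, ⟨hw, hwc'⟩, hwc⟩ := nonempty_inter_closedPoints (Z := (C₀ : Set G.left) ∩ o ⁻¹' {c}) ⟨z, hz, hzc⟩
      ((isClosed_of_mem_irreducibleComponents _ C₀.2).inter (hcc.preimage o.continuous)).isLocallyClosed
    obtain ⟨b, rfl⟩ := hG w hwc
    exact ⟨b, hw, hwc'⟩
  obtain ⟨w₀, hw₀, hw₀c⟩ := nonempty_inter_closedPoints (Z := (C₀ : Set G.left)) C₀.2.1.nonempty
    (isClosed_of_mem_irreducibleComponents _ C₀.2).isLocallyClosed
  obtain ⟨d₀, rfl⟩ := hG w₀ hw₀c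
  have hall : ∀ z : G.left, z ∈ (C₀ : Set G.left) := fun z => by
    obtain ⟨c, hcz, hc⟩ := nonempty_inter_closedPoints (Z := irreducibleComponent z) ⟨z, mem_irreducibleComponent⟩
      isClosed_irreducibleComponent.isLocallyClosed
    obtain ⟨d, rfl⟩ := hG c hc
    let g := d * d₀⁻¹
    have hC1 : L g '' (C₀ : Set G.left) = irreducibleComponent z := by
      rw [component_eq hG (mem_components_image (L g) C₀.2)
        (show ev d ∈ _ from ⟨_, hw₀, by rw [L_ev, inv_mul_cancel_right]⟩)]
      exact (component_eq hG (irreducibleComponent_mem_irreducibleComponents z) hcz).symm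
    obtain ⟨x, -, hx1, hx2⟩ := (IrreducibleSpace.isIrreducible_univ X.left).2 W (trh a g '' W) hW
      ((trh a g).isOpenMap _ hW) (by simpa using hWne) (by simpa using hWne.image (trh a g))
    obtain ⟨c, ⟨hc1, hc2⟩, hcc⟩ := nonempty_inter_closedPoints (Z := W ∩ trh a g '' W) ⟨x, hx1, hx2⟩
      (hW.inter ((trh a g).isOpenMap _ hW)).isLocallyClosed
    obtain ⟨c', hc', rfl⟩ := hc2
    have hc'c : IsClosed ({c'} : Set X.left) := by
      have := hcc.preimage (trh a g).continuous
      rwa [← Set.image_singleton, (trh a g).injective.preimage_image] at this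
    obtain ⟨b₁, hb₁, e₁⟩ := hWcl _ hc1 hcc
    obtain ⟨b', hb', e'⟩ := hWcl c' hc' hc'c
    let b₂ := g * b'
    have e₂ : o (ev b₂) = trh a g c' := by rw [← e', trh_orbit, L_ev]
    have hmem₂ : ev b₂ ∈ irreducibleComponent z := hC1 ▸ ⟨_, hb', L_ev g b'⟩
    have hpt : ∀ p q : 𝟙_ (Over (Spec (CommRingCat.of k))) ⟶ X,
        p.left (IsLocalRing.closedPoint k) = q.left (IsLocalRing.closedPoint k) → p = q := fun p q h =>
      Over.OverMorphism.ext (ext_of_apply_closedPoint_eq X.hom (Over.w p) (Over.w q) h)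
    have eq : b₁ ≫ a.orbitMap x₀ = b₂ ≫ a.orbitMap x₀ := hpt _ _ (e₁.trans e₂.symm)
    have hfix : (b₁⁻¹ * b₂) ≫ a.orbitMap x₀ = toUnit _ ≫ x₀ := by
      rw [← Orbit.act_orbitMap, ← eq, Orbit.act_orbitMap, inv_mul_cancel, Orbit.comp_orbitMap, Orbit.act_one]
    obtain ⟨hh, hhe⟩ := hH _ hfix
    obtain ⟨h1, hh1⟩ := hH 1 (by rw [Orbit.comp_orbitMap, Orbit.act_one])
    let F := L b₁ '' Set.range i.left
    have hF : _root_.IsPreconnected F := ((isPreconnected_range i.left.continuous).image _ (L b₁).continuous.continuousOn)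
    have hF₂ : ev b₂ ∈ F := ⟨ev (b₁⁻¹ * b₂), ⟨hh.left (IsLocalRing.closedPoint k), congrArg ev hhe⟩, by
      rw [L_ev, mul_inv_cancel_left]⟩
    have hF₁ : ev b₁ ∈ F := ⟨ev 1, ⟨h1.left (IsLocalRing.closedPoint k), congrArg ev hh1⟩, by rw [L_ev, _root_.mul_one]⟩
    have hclop : IsClopen (C₀ : Set G.left) := by
      refine ⟨isClosed_of_mem_irreducibleComponents _ C₀.2, ?_⟩
      have : (C₀ : Set G.left) = (⋃₀ (irreducibleComponents _ \ {(C₀ : Set G.left)}))ᶜ := by
        ext y
        refine ⟨fun hy ⟨s, ⟨hs, hne⟩, hys⟩ => hne ((component_eq hG hs hys).trans (component_eq hG C₀.2 hy).symm),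
          fun hy => ?_⟩
        by_contra hyc
        exact hy ⟨_, ⟨irreducibleComponent_mem_irreducibleComponents y,
          fun h => hyc ((Set.mem_singleton_iff.1 h).le mem_irreducibleComponent)⟩, mem_irreducibleComponent⟩
      rw [this, Set.sUnion_eq_biUnion]
      exact ((NoetherianSpace.finite_irreducibleComponents.subset Set.sdiff_subset).isClosed_biUnion
        fun s hs => isClosed_of_mem_irreducibleComponents s hs.1).isOpen_compl
    have hb₂ : ev b₂ ∈ (C₀ : Set G.left) := hF.subset_isClopen hclop ⟨_, hF₁, hb₁⟩ hF₂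
    rw [(component_eq hG C₀.2 hb₂).trans (component_eq hG (irreducibleComponent_mem_irreducibleComponents z) hmem₂).symm]
    exact mem_irreducibleComponent
  have : IrreducibleSpace G.left :=
    { isPreirreducible_univ := by
        rw [← Set.eq_univ_of_forall hall]; exact C₀.2.1.isPreirreducible
      toNonempty := ⟨ev d₀⟩ }
  infer_instance

end Groth.Agent.Grp6.OrbitConnected

end
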