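import Groth.Agent.Topo.QCImage
import Groth.Agent.HopfRep.Torsor
import Mathlib.AlgebraicGeometry.Morphisms.Integral
import Mathlib.AlgebraicGeometry.Morphisms.UniversallyClosed
import Mathlib.AlgebraicGeometry.Limits

/-!
A profinite set of points of a group scheme lies in an affine open.
-/

universe u

open CategoryTheory MonoidalCategory CartesianMonoidalCategory MonObj GrpObj AlgebraicGeometry

set_option linter.style.haveILetI false
set_option backward.isDefEq.respectTransparency.types false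

noncomputable section

namespace Groth.Agent.Grp6.ProfiniteAffine

variable {k : Type u} [Field k] {G : Over (Spec (CommRingCat.of k))}

/-- the image of a rational point -/
def ev (a : 𝟙_ (Over (Spec (CommRingCat.of k))) ⟶ G) : G.left := a.left (IsLocalRing.closedPoint k)

/-- every closed point is rational -/
def Rat (G : Over (Spec (CommRingCat.of k))) : Prop :=
  ∀ g : G.left, IsClosed ({g} : Set G.left) → ∃ a : 𝟙_ (Over (Spec (CommRingCat.of k))) ⟶ G, ev a = g

variable [GrpObj G]

/-- left translation -/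
def lt (a : 𝟙_ (Over (Spec (CommRingCat.of k))) ⟶ G) : G ≅ G where
  hom := (toUnit G ≫ a) * 𝟙 G
  inv := (toUnit G ≫ a)⁻¹ * 𝟙 G
  hom_inv_id := by simp [MonObj.comp_mul, GrpObj.comp_inv]
  inv_hom_id := by simp [MonObj.comp_mul]

/-- right translation -/
def rt (a : 𝟙_ (Over (Spec (CommRingCat.of k))) ⟶ G) : G ≅ G where
  hom := 𝟙 G * (toUnit G ≫ a)
  inv := 𝟙 G * (toUnit G ≫ a)⁻¹
  hom_inv_id := by simp [MonObj.comp_mul, GrpObj.comp_inv]
  inv_hom_id := by simp [MonObj.comp_mul]

/-- left translation on the space -/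
def L (a : 𝟙_ (Over (Spec (CommRingCat.of k))) ⟶ G) : G.left ≃ₜ G.left :=
  ((Over.forget _).mapIso (lt a)).hom.homeomorph

/-- right translation on the space -/
def R (a : 𝟙_ (Over (Spec (CommRingCat.of k))) ⟶ G) : G.left ≃ₜ G.left :=
  ((Over.forget _).mapIso (rt a)).hom.homeomorph

theorem L_ev (a b : 𝟙_ (Over (Spec (CommRingCat.of k))) ⟶ G) : L a (ev b) = ev (a * b) := by
  have e : b ≫ (lt a).hom = a * b := by
    simp [lt, MonObj.comp_mul, toUnit_unique (b ≫ toUnit G) (𝟙 _)]
  exact congrArg ev e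

theorem R_ev (a b : 𝟙_ (Over (Spec (CommRingCat.of k))) ⟶ G) : R a (ev b) = ev (b * a) := by
  have e : b ≫ (rt a).hom = b * a := by
    simp [rt, MonObj.comp_mul, toUnit_unique (b ≫ toUnit G) (𝟙 _)]
  exact congrArg ev e

theorem mem_components_image {X : Type u} [TopologicalSpace X] (φ : X ≃ₜ X) {s : Set X}
    (hs : s ∈ irreducibleComponents X) : φ '' s ∈ irreducibleComponents X := by
  refine ⟨hs.1.image φ φ.continuous.continuousOn, fun Z hZ hle x hx => ?_⟩
  have h1 : φ.symm '' Z ≤ s := hs.2 (hZ.image φ.symm φ.symm.continuous.continuousOn)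
    (fun y hy => ⟨φ y, hle ⟨y, hy, rfl⟩, φ.symm_apply_apply y⟩)
  exact ⟨φ.symm x, h1 ⟨x, hx, rfl⟩, φ.apply_symm_apply x⟩

variable [JacobsonSpace G.left] (hG : Rat G)

include hG

theorem exists_irreducible_product (Z₁ Z₂ : Set G.left) (h₁ : IsIrreducible Z₁) (h₂ : IsIrreducible Z₂)
    (c₁ : IsClosed Z₁) (c₂ : IsClosed Z₂) :
    IsPreirreducible {x | ∃ a b : 𝟙_ (Over (Spec (CommRingCat.of k))) ⟶ G, ev a ∈ Z₁ ∧ ev b ∈ Z₂ ∧ ev (a * b) = x} := by
  rintro O O' hO hO' ⟨_, ⟨a, b, ha, hb, rfl⟩, hab⟩ ⟨_, ⟨a', b', ha', hb', rfl⟩, hab'⟩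
  obtain ⟨x, hx, hxO, hxO'⟩ := h₁.2 _ _ (hO.preimage (R b).continuous) (hO'.preimage (R b').continuous)
    ⟨ev a, ha, by rwa [Set.mem_preimage, R_ev]⟩ ⟨ev a', ha', by rwa [Set.mem_preimage, R_ev]⟩
  obtain ⟨c, ⟨hc, hcO, hcO'⟩, hcc⟩ := nonempty_inter_closedPoints
    (Z := Z₁ ∩ (R b ⁻¹' O ∩ R b' ⁻¹' O')) ⟨x, hx, hxO, hxO'⟩
    (c₁.isLocallyClosed.inter ((hO.preimage (R b).continuous).inter (hO'.preimage (R b').continuous)).isLocallyClosed)
  obtain ⟨d, rfl⟩ := hG c hcc
  rw [Set.mem_preimage, R_ev] at hcO hcO'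
  obtain ⟨y, hy, hyO, hyO'⟩ := h₂.2 _ _ (hO.preimage (L d).continuous) (hO'.preimage (L d).continuous)
    ⟨ev b, hb, by rwa [Set.mem_preimage, L_ev]⟩ ⟨ev b', hb', by rwa [Set.mem_preimage, L_ev]⟩
  obtain ⟨c', ⟨hc', hcO₂, hcO₂'⟩, hcc'⟩ := nonempty_inter_closedPoints
    (Z := Z₂ ∩ (L d ⁻¹' O ∩ L d ⁻¹' O')) ⟨y, hy, hyO, hyO'⟩
    (c₂.isLocallyClosed.inter ((hO.preimage (L d).continuous).inter (hO'.preimage (L d).continuous)).isLocallyClosed)
  obtain ⟨e, rfl⟩ := hG c' hcc'
  rw [Set.mem_preimage, L_ev] at hcO₂ hcO₂'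
  exact ⟨ev (d * e), ⟨d, e, hc, hc', rfl⟩, hcO₂, hcO₂'⟩

/-- only one irreducible component passes through the origin -/
theorem eq_of_one_mem {Z₁ Z₂ : Set G.left} (h₁ : Z₁ ∈ irreducibleComponents G.left)
    (h₂ : Z₂ ∈ irreducibleComponents G.left) (e₁ : ev (1 : 𝟙_ _ ⟶ G) ∈ Z₁) (e₂ : ev (1 : 𝟙_ _ ⟶ G) ∈ Z₂) :
    Z₁ = Z₂ := by
  let S := {x | ∃ a b : 𝟙_ (Over (Spec (CommRingCat.of k))) ⟶ G, ev a ∈ Z₁ ∧ ev b ∈ Z₂ ∧ ev (a * b) = x}
  have hS : IsIrreducible S := ⟨⟨_, 1, 1, e₁, e₂, rfl⟩,
    exists_irreducible_product hG Z₁ Z₂ h₁.1 h₂.1 (isClosed_of_mem_irreducibleComponents _ h₁)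
      (isClosed_of_mem_irreducibleComponents _ h₂)⟩
  have hd : ∀ (Z : Set G.left), IsClosed Z → (∀ a, ev a ∈ Z → ev a ∈ S) → Z ⊆ closure S := by
    intro Z hZ h
    rw [← closure_inter_closedPoints hZ]
    refine closure_mono fun x hx => ?_
    obtain ⟨a, rfl⟩ := hG x hx.2
    exact h a hx.1
  have l₁ := hd Z₁ (isClosed_of_mem_irreducibleComponents _ h₁) fun a ha => ⟨a, 1, ha, e₂, by rw [_root_.mul_one]⟩
  have l₂ := hd Z₂ (isClosed_of_mem_irreducibleComponents _ h₂) fun a ha => ⟨1, a, e₁, ha, by rw [_root_.one_mul]⟩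
  exact (l₁.antisymm (h₁.2 hS.closure l₁)).trans (l₂.antisymm (h₂.2 hS.closure l₂)).symm

/-- only one irreducible component passes through each point -/
theorem component_eq {x : G.left} {s : Set G.left} (hs : s ∈ irreducibleComponents G.left) (hx : x ∈ s) :
    s = irreducibleComponent x := by
  obtain ⟨c, hcx, hc⟩ := nonempty_inter_closedPoints (Z := closure {x}) ⟨x, subset_closure rfl⟩
    isClosed_closure.isLocallyClosed
  obtain ⟨a, rfl⟩ := hG c hc
  have hmem : ∀ {t : Set G.left}, t ∈ irreducibleComponents G.left → x ∈ t →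
      L a⁻¹ '' t ∈ irreducibleComponents G.left ∧ ev (1 : 𝟙_ _ ⟶ G) ∈ L a⁻¹ '' t := fun {t} ht hxt =>
    ⟨mem_components_image _ ht, ev a,
      closure_minimal (Set.singleton_subset_iff.2 hxt) (isClosed_of_mem_irreducibleComponents _ ht) hcx,
      by rw [L_ev, inv_mul_cancel]⟩
  have h1 := hmem hs hx
  have h2 := hmem (irreducibleComponent_mem_irreducibleComponents x) mem_irreducibleComponent
  exact (L a⁻¹).injective.image_injective (eq_of_one_mem hG h1.1 h2.1 h1.2 h2.2)

omit hG

/-- the generic point of the component through `x` -/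
def gen (x : G.left) : G.left := (isIrreducible_irreducibleComponent (x := x)).genericPoint

omit [GrpObj G] [JacobsonSpace G.left] in
theorem closure_η (x : G.left) : closure {gen x} = irreducibleComponent x :=
  (isIrreducible_irreducibleComponent.isGenericPoint_genericPoint isClosed_irreducibleComponent).def

omit [GrpObj G] [JacobsonSpace G.left] in
theorem gen_maximal (x y : G.left) (h : y ⤳ gen x) : y = gen x :=
  (Topo.QCImage.closure_singleton_mem_irreducibleComponents_iff (gen x)).1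
    (by rw [closure_η]; exact irreducibleComponent_mem_irreducibleComponents x) y h

omit [GrpObj G] [JacobsonSpace G.left] in
theorem gen_mem_of_mem {x : G.left} {O : Set G.left} (hO : IsOpen O) (hx : x ∈ O) : gen x ∈ O :=
  (specializes_iff_mem_closure.2 (show x ∈ closure {gen x} by rw [closure_η]; exact mem_irreducibleComponent)).mem_open hO hx

omit [GrpObj G] [JacobsonSpace G.left] in
theorem gen_congr {x y : G.left} (h : irreducibleComponent x = irreducibleComponent y) : gen x = gen y :=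
  gen_maximal y (gen x) (specializes_iff_mem_closure.2 (by
    rw [closure_η, h, ← closure_η]; exact subset_closure rfl))

include hG

/-- translation by an element of the neutral component preserves every component -/
theorem gen_R (z : 𝟙_ (Over (Spec (CommRingCat.of k))) ⟶ G) (hz : ev z ∈ irreducibleComponent (ev (1 : 𝟙_ _ ⟶ G)))
    (y : G.left) : gen (R z y) = gen y := by
  refine gen_congr ?_
  have hs := mem_components_image (R z) (irreducibleComponent_mem_irreducibleComponents y)
  rw [← component_eq hG hs ⟨y, mem_irreducibleComponent, rfl⟩]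
  obtain ⟨c, hcy, hc⟩ := nonempty_inter_closedPoints (Z := irreducibleComponent y) ⟨y, mem_irreducibleComponent⟩
    isClosed_irreducibleComponent.isLocallyClosed
  obtain ⟨a, rfl⟩ := hG c hc
  have h1 : ev (a * z) ∈ R z '' irreducibleComponent y := ⟨_, hcy, R_ev z a⟩
  have h2 : ev (a * z) ∈ L a '' irreducibleComponent (ev (1 : 𝟙_ _ ⟶ G)) := ⟨_, hz, L_ev a z⟩
  have h3 := mem_components_image (L a) (irreducibleComponent_mem_irreducibleComponents (ev (1 : 𝟙_ _ ⟶ G)))
  rw [component_eq hG hs h1, ← component_eq hG h3 h2,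
    component_eq hG h3 (show ev a ∈ _ from ⟨_, mem_irreducibleComponent, by rw [L_ev, _root_.mul_one]⟩),
    component_eq hG (irreducibleComponent_mem_irreducibleComponents y) hcy]

/-- the saturation of an open set by components is open -/
theorem isOpen_setOf_gen_mem (W : G.left.Opens) : IsOpen {x | gen x ∈ W} := by
  rw [isOpen_iff_forall_mem_open]
  intro x hx
  obtain ⟨c, hcx, hc⟩ := nonempty_inter_closedPoints (Z := closure {x}) ⟨x, subset_closure rfl⟩
    isClosed_closure.isLocallyClosed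
  obtain ⟨a, rfl⟩ := hG c hc
  have hca : ev a ∈ irreducibleComponent x :=
    closure_minimal (Set.singleton_subset_iff.2 mem_irreducibleComponent) isClosed_irreducibleComponent hcx
  obtain ⟨w, ⟨hwC, hwW⟩, hw⟩ := nonempty_inter_closedPoints (Z := irreducibleComponent x ∩ (W : Set G.left))
    ⟨gen x, by rw [← closure_η]; exact subset_closure rfl, hx⟩
    (isClosed_irreducibleComponent.isLocallyClosed.inter W.2.isLocallyClosed)
  obtain ⟨b, rfl⟩ := hG w hw
  have hcomp := irreducibleComponent_mem_irreducibleComponents (ev (1 : 𝟙_ _ ⟶ G))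
  have himg : irreducibleComponent x = L a '' irreducibleComponent (ev (1 : 𝟙_ _ ⟶ G)) := by
    rw [component_eq hG (mem_components_image (L a) hcomp)
      (show ev a ∈ _ from ⟨_, mem_irreducibleComponent, by rw [L_ev, _root_.mul_one]⟩)]
    exact component_eq hG (irreducibleComponent_mem_irreducibleComponents x) hca
  have hz : ev (a⁻¹ * b) ∈ irreducibleComponent (ev (1 : 𝟙_ _ ⟶ G)) := by
    obtain ⟨v, hv, hv'⟩ := himg ▸ hwC
    have hv'' : L a v = L a (ev (a⁻¹ * b)) := by rw [hv', L_ev, mul_inv_cancel_left]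
    exact (L a).injective hv'' ▸ hv
  have hb : R (a⁻¹ * b) (ev a) ∈ W := by rw [R_ev, mul_inv_cancel_left]; exact hwW
  refine ⟨R (a⁻¹ * b) ⁻¹' W, fun y hy => ?_, W.2.preimage (R _).continuous,
    (specializes_iff_mem_closure.2 hcx).mem_open (W.2.preimage (R _).continuous) hb⟩
  show gen y ∈ W
  rw [← gen_R hG _ hz y]
  exact gen_mem_of_mem W.2 hy

/-- the saturation of a quasi-compact open is closed -/
theorem isClosed_setOf_gen_mem [QuasiSeparatedSpace G.left] (W : G.left.Opens) (hW : IsCompact (W : Set G.left)) :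
    IsClosed {x | gen x ∈ W} := by
  rw [← isOpen_compl_iff, isOpen_iff_forall_mem_open]
  intro x hx
  have hN : gen x ∉ closure (W : Set G.left) := by
    intro h
    have : CompactSpace W.toScheme := isCompact_iff_compactSpace.mp hW
    have : QuasiCompact W.ι := quasiCompact_of_compactSpace W.ι
    obtain ⟨w, hw⟩ := Topo.QCImage.exists_specializes_of_mem_closure_range W.ι (y := gen x)
      (by rwa [Scheme.Opens.range_ι])
    exact hx (show gen x ∈ W from gen_maximal x _ hw ▸ (W.ι_apply w ▸ w.2))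
  refine ⟨{y | gen y ∈ (⟨(closure (W : Set G.left))ᶜ, isClosed_closure.isOpen_compl⟩ : G.left.Opens)},
    fun y hy hy' => hy (subset_closure hy'), isOpen_setOf_gen_mem hG _, hN⟩

omit hG [GrpObj G] [JacobsonSpace G.left] in
theorem exists_section {A : Type u} [CommRing A] [Algebra k A] [IsAlgClosed k] [Algebra.IsIntegral k A]
    (t : Spec (CommRingCat.of A)) : ∃ s : Spec (CommRingCat.of k) ⟶ Spec (CommRingCat.of A),
      s ≫ Spec.map (CommRingCat.ofHom (algebraMap k A)) = 𝟙 _ ∧ Set.range s = {t} := by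
  let p : PrimeSpectrum A := t
  have hp : p.asIdeal.IsPrime := p.isPrime
  have : Algebra.IsIntegral k (A ⧸ p.asIdeal) := inferInstance
  have hb : Function.Bijective (algebraMap k (A ⧸ p.asIdeal)) := IsAlgClosed.algebraMap_bijective_of_isIntegral
  let e : (A ⧸ p.asIdeal) ≃+* k := (RingEquiv.ofBijective _ hb).symm
  let φ : A →+* k := (e : (A ⧸ p.asIdeal) →+* k).comp (Ideal.Quotient.mk p.asIdeal)
  refine ⟨Spec.map (CommRingCat.ofHom φ), ?_, ?_⟩
  · rw [← Spec.map_comp, ← Spec.map_id]
    refine congrArg Spec.map (CommRingCat.hom_ext (RingHom.ext fun c => ?_))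
    exact (RingEquiv.ofBijective _ hb).symm_apply_apply c
  · have hker : ∀ q : PrimeSpectrum k, PrimeSpectrum.comap φ q = p := fun q => by
      refine PrimeSpectrum.ext ?_
      show q.asIdeal.comap φ = p.asIdeal
      rw [Subsingleton.elim q ⊥]
      ext x
      show φ x ∈ (⊥ : Ideal k) ↔ x ∈ p.asIdeal
      rw [Ideal.mem_bot, ← Ideal.Quotient.eq_zero_iff_mem]
      exact e.map_eq_zero_iff
    exact Set.eq_singleton_iff_unique_mem.2 ⟨⟨IsLocalRing.closedPoint k, hker _⟩, by
      rintro _ ⟨q, rfl⟩; exact hker q⟩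

omit hG [GrpObj G] [JacobsonSpace G.left] in
theorem isAffineOpen_biSup {X : Scheme.{u}} {α : Type*} [DecidableEq α] (s : Finset α) (V : α → X.Opens)
    (hV : ∀ a ∈ s, IsAffineOpen (V a))
    (hd : ∀ a ∈ s, ∀ b ∈ s, a ≠ b → Disjoint (V a) (V b)) : IsAffineOpen (s.sup V) := by
  induction s using Finset.induction_on with
  | empty => simpa using isAffineOpen_bot X
  | insert a s ha ih =>
    rw [Finset.sup_insert]
    refine IsAffineOpen.sup_of_disjoint (hV a (Finset.mem_insert_self a s))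
      (ih (fun b hb => hV b (Finset.mem_insert_of_mem hb))
        (fun b hb c hc => hd b (Finset.mem_insert_of_mem hb) c (Finset.mem_insert_of_mem hc))) ?_
    rw [Finset.disjoint_sup_right]
    exact fun b hb => hd a (Finset.mem_insert_self a s) b (Finset.mem_insert_of_mem hb) fun h => ha (h ▸ hb)

set_option maxHeartbeats 1000000 in
theorem exists_affineOpen [IsAlgClosed k] {A : Type u} [CommRing A] [Algebra k A] [Algebra.IsIntegral k A]
    (f : Spec (CommRingCat.of A) ⟶ G.left) (hf : f ≫ G.hom = Spec.map (CommRingCat.ofHom (algebraMap k A))) :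
    ∃ U : G.left.Opens, IsAffineOpen U ∧ Set.range f ⊆ (U : Set G.left) := by
  classical
  have hsep := HopfRep.Torsor.isSeparated G
  have : G.left.IsSeparated := ⟨by rw [← Limits.terminal.comp_from G.hom]; infer_instance⟩
  -- a cover of the generic points by disjoint affine opens
  obtain ⟨n, V, hV, hcov⟩ : ∃ (n : ℕ) (V : Fin n → G.left.Opens), (∀ i, IsAffineOpen (V i)) ∧
      Set.range f ⊆ ⋃ i, (V i : Set G.left) := by
    have hK : IsCompact (Set.range f) := isCompact_range f.continuous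
    obtain ⟨s, hs⟩ := hK.elim_finite_subcover (fun U : G.left.affineOpens => ((U : G.left.Opens) : Set G.left))
      (fun U => U.1.2) fun x _ => by
        obtain ⟨_, ⟨U, hU, rfl⟩, hxU, -⟩ := G.left.isBasis_affineOpens.exists_subset_of_mem_open (Set.mem_univ x) isOpen_univ
        exact Set.mem_iUnion.2 ⟨⟨U, hU⟩, hxU⟩
    refine ⟨s.card, fun i => ((s.equivFin.symm i : G.left.affineOpens) : G.left.Opens),
      fun i => ((s.equivFin.symm i : G.left.affineOpens)).2, hs.trans fun x hx => ?_⟩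
    obtain ⟨U, hU, hxU⟩ := Set.mem_iUnion₂.1 hx
    exact Set.mem_iUnion.2 ⟨s.equivFin ⟨U, hU⟩, by simpa using hxU⟩
  let S : Fin n → Set G.left := fun i => {x | gen x ∈ V i}
  have hSc : ∀ i, IsClopen (S i) := fun i =>
    ⟨isClosed_setOf_gen_mem hG (V i) (hV i).isCompact, isOpen_setOf_gen_mem hG (V i)⟩
  let C : Fin n → Set G.left := fun i => S i \ ⋃ j ∈ {j | j < i}, S j
  have hC : ∀ i, IsClopen (C i) := fun i =>
    (hSc i).diff ((Set.toFinite _).isClopen_biUnion fun j _ => hSc j)
  let P : Fin n → G.left.Opens := fun i => V i ⊓ ⟨C i, (hC i).2⟩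
  have hP : ∀ i, IsAffineOpen (P i) := fun i => by
    let U' : (V i).toScheme.Opens := (V i).ι ⁻¹ᵁ ⟨C i, (hC i).2⟩
    have : IsAffine (V i).toScheme := hV i
    have hcl : IsClosed (U' : Set (V i).toScheme) := (hC i).1.preimage (V i).ι.continuous
    have : IsClosedImmersion U'.ι := .of_isPreimmersion _ (by rw [Scheme.Opens.range_ι]; exact hcl)
    have h1 : IsAffineOpen U' := isAffine_of_isAffineHom U'.ι
    have h2 := h1.image_of_isOpenImmersion (V i).ι
    rwa [Scheme.Hom.image_preimage_eq_opensRange_inf, Scheme.Opens.opensRange_ι] at h2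
  let U := Finset.univ.sup P
  have hdisj : ∀ i j, i < j → Disjoint (C i) (C j) := fun i j h => by
    rw [Set.disjoint_left]
    exact fun x hi hj => hj.2 (Set.mem_biUnion (x := i) h hi.1)
  have hU : IsAffineOpen U := by
    refine isAffineOpen_biSup Finset.univ P (fun i _ => hP i) fun i _ j _ hij => ?_
    have h : Disjoint (C i) (C j) := by
      rcases lt_or_gt_of_ne hij with h | h
      exacts [hdisj i j h, (hdisj j i h).symm]
    rw [disjoint_iff]
    refine SetLike.coe_injective (Set.eq_empty_iff_forall_notMem.2 fun x hx => ?_)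
    exact Set.disjoint_left.1 h hx.1.2 hx.2.2
  have hgenU : ∀ t, gen (f t) ∈ U := fun t => by
    obtain ⟨i, hi⟩ := Set.mem_iUnion.1 (hcov ⟨t, rfl⟩)
    have hne : (Finset.univ.filter fun j => gen (f t) ∈ V j).Nonempty :=
      ⟨i, Finset.mem_filter.2 ⟨Finset.mem_univ i, gen_mem_of_mem (V i).2 hi⟩⟩
    let m := (Finset.univ.filter fun j => gen (f t) ∈ V j).min' hne
    have hm := (Finset.mem_filter.1 (Finset.min'_mem _ hne)).2
    refine SetLike.le_def.1 (Finset.le_sup (f := P) (Finset.mem_univ m)) ⟨hm, ?_, ?_⟩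
    · show gen (gen (f t)) ∈ V m
      exact gen_mem_of_mem (V m).2 hm
    · intro hx
      obtain ⟨j, hj, hjη⟩ := Set.mem_iUnion₂.1 hx
      have : gen (gen (f t)) = gen (f t) := gen_congr (component_eq hG (irreducibleComponent_mem_irreducibleComponents (f t))
        (by rw [← closure_η]; exact subset_closure rfl)).symm
      exact absurd (Finset.min'_le _ j (Finset.mem_filter.2 ⟨Finset.mem_univ j, this ▸ hjη⟩)) (not_le.2 hj)
  -- the translates of the range into `U`
  let T : Over (Spec (CommRingCat.of k)) := Over.mk (Spec.map (CommRingCat.ofHom (algebraMap k A)))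
  let fT : T ⟶ G := Over.homMk f hf
  let M : T ⊗ G ⟶ G := (fst T G ≫ fT) * snd T G
  let p := (snd T G).left
  have : IsIntegralHom T.hom := IsIntegralHom.SpecMap_iff.2 (algebraMap_isIntegral_iff.2 inferInstance)
  have : UniversallyClosed p := inferInstanceAs (UniversallyClosed (Limits.pullback.snd T.hom G.hom))
  let bad : Set G.left := p '' (M.left ⁻¹' (U : Set G.left)ᶜ)
  have hbad : IsClosed bad := p.isClosedMap _ (U.2.isClosed_compl.preimage M.left.continuous)
  let ξ := gen (ev (1 : 𝟙_ _ ⟶ G))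
  have hξ : ξ ∉ bad := by
    rintro ⟨q, hq, hqξ⟩
    let t := (fst T G).left q
    obtain ⟨s, hs, hrange⟩ := exists_section (k := k) t
    let sT : 𝟙_ (Over (Spec (CommRingCat.of k))) ⟶ T := Over.homMk s hs
    let j : G ⟶ T ⊗ G := lift (toUnit G ≫ sT) (𝟙 G)
    have hmem : q ∈ Set.range j.left := by
      have hpb : IsPullback j.left G.hom (fst T G).left s := by
        have hbig : IsPullback (j.left ≫ (snd T G).left) G.hom G.hom (s ≫ T.hom) := by
          rw [show j.left ≫ (snd T G).left = 𝟙 _ from congrArg Over.Hom.left (lift_snd (toUnit G ≫ sT) (𝟙 G)),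
            show s ≫ T.hom = 𝟙 _ from hs]
          exact IsPullback.id_horiz G.hom
        exact IsPullback.of_right hbig (congrArg Over.Hom.left (lift_fst (toUnit G ≫ sT) (𝟙 G)))
          (IsPullback.of_hasPullback T.hom G.hom).flip
      obtain ⟨w, hw, -⟩ := Scheme.exists_preimage_of_isPullback hpb q (IsLocalRing.closedPoint k)
        (by rw [show s (IsLocalRing.closedPoint k) = t from Set.eq_of_mem_singleton (hrange ▸ ⟨_, rfl⟩)])
      exact ⟨w, hw⟩
    obtain ⟨w, rfl⟩ := hmem
    have hwξ : w = ξ := by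
      rw [← hqξ]
      exact (congrArg (fun φ : G ⟶ G => φ.left w) (lift_snd (toUnit G ≫ sT) (𝟙 G))).symm
    subst hwξ
    let a : 𝟙_ (Over (Spec (CommRingCat.of k))) ⟶ G := sT ≫ fT
    have e : j ≫ M = (lt a).hom := by simp [j, M, lt, a, MonObj.comp_mul]
    refine hq ?_
    show (j ≫ M).left ξ ∈ U
    rw [e]
    have ha : ev a = f t := congrArg f (Set.eq_of_mem_singleton (hrange ▸ ⟨_, rfl⟩))
    have h1 : gen (f t) = L a ξ := by
      have hc := component_eq hG (x := f t) (mem_components_image (L a)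
        (irreducibleComponent_mem_irreducibleComponents (ev (1 : 𝟙_ _ ⟶ G))))
        ⟨_, mem_irreducibleComponent, by rw [L_ev, _root_.mul_one, ha]⟩
      refine (gen_maximal (f t) (L a ξ) (specializes_iff_mem_closure.2 ?_)).symm
      rw [← Set.image_singleton, ← (L a).image_closure, closure_η, hc, ← closure_η]
      exact subset_closure rfl
    exact (h1 ▸ hgenU t : L a ξ ∈ U)
  obtain ⟨h, hh, hhc⟩ := nonempty_inter_closedPoints (Z := badᶜ) ⟨ξ, hξ⟩ hbad.isOpen_compl.isLocallyClosed
  obtain ⟨b, rfl⟩ := hG h hhc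
  have : IsIso (rt b).hom.left := inferInstanceAs (IsIso ((Over.forget _).map (rt b).hom))
  refine ⟨(rt b).hom.left ⁻¹ᵁ U, hU.preimage_of_isIso _, ?_⟩
  rintro _ ⟨t, rfl⟩
  obtain ⟨s, hs, hrange⟩ := exists_section (k := k) t
  let sT : 𝟙_ (Over (Spec (CommRingCat.of k))) ⟶ T := Over.homMk s hs
  let a : 𝟙_ (Over (Spec (CommRingCat.of k))) ⟶ G := sT ≫ fT
  have ha : ev a = f t := congrArg f (Set.eq_of_mem_singleton (hrange ▸ ⟨_, rfl⟩))
  show R b (f t) ∈ U
  rw [← ha, R_ev]
  by_contra hn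
  refine hh ⟨(lift sT b).left (IsLocalRing.closedPoint k), ?_, ?_⟩
  · show (lift sT b ≫ M).left (IsLocalRing.closedPoint k) ∉ U
    have e : lift sT b ≫ M = a * b := by
      simp only [M, a, MonObj.comp_mul, lift_fst_assoc, lift_snd]
    rw [e]
    exact hn
  · exact congrArg ev (lift_snd sT b)

end Groth.Agent.Grp6.ProfiniteAffine

end
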